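import Groth.Agent.Krr.H493.ChK

/-!
# The Chern character induces a bijection `ℚ ⊗ K ≅ ℚGr K`
-/

set_option autoImplicit false
universe v

open scoped TensorProduct
open LambdaRing KGr

namespace Groth.Agent.Krr.H493.ChBij

open Groth.Agent.Books.Lambda2
open Groth.Agent.Krr.H493.AdamsDiff Groth.Agent.Krr.H493.ChK
open Groth.Agent.Krr.H500.GrK Groth.Agent.Krr.H493.GrBasis

lemma exists_tmul {M : Type*} [AddCommGroup M] (z : ℚ ⊗[ℤ] M) :
    ∃ (N : ℕ) (x : M), 1 ≤ N ∧ z = (1 / (N : ℚ)) ⊗ₜ[ℤ] x := by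
  refine TensorProduct.induction_on z ⟨1, 0, le_rfl, by simp⟩ ?_ ?_
  · intro q x
    refine ⟨q.den, q.num • x, q.den_pos, ?_⟩
    rw [← TensorProduct.smul_tmul]
    congr 1
    rw [zsmul_eq_mul, mul_one_div]
    exact (Rat.num_div_den q).symm
  · rintro a b ⟨N, x, hN, rfl⟩ ⟨M, y, hM, rfl⟩
    have hN0 : (N : ℚ) ≠ 0 := by positivity
    have hM0 : (M : ℚ) ≠ 0 := by positivity
    refine ⟨N * M, (M : ℤ) • x + (N : ℤ) • y, Nat.mul_pos hN hM, ?_⟩
    rw [TensorProduct.tmul_add, ← TensorProduct.smul_tmul, ← TensorProduct.smul_tmul]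
    congr 2
    · rw [zsmul_eq_mul]; push_cast; field_simp
    · rw [zsmul_eq_mul]; push_cast; field_simp

variable {K : Type v} [CommRing K] [LambdaRing.LambdaOps K] (P : LambdaRing.PosStructure K)
  (hK : HasSplitting K P) (d : ℕ)

/-- the `ℚ`-linear extension of the Chern character -/
noncomputable def Phi : ℚ ⊗[ℤ] K →ₗ[ℚ] Gr P :=
  LinearMap.liftBaseChange ℚ (chHom P hK d).toIntLinearMap

lemma Phi_tmul (q : ℚ) (x : K) : Phi P hK d (q ⊗ₜ[ℤ] x) = q • chHom P hK d x := by
  rw [Phi, LinearMap.liftBaseChange_tmul]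
  rfl

lemma mem_QF_of_chHom_eq_zero (x : K) (hx : chHom P hK d x = 0) (n : ℕ) (hn : n ≤ d + 1) :
    x ∈ QF P n := by
  induction n with
  | zero => exact mem_QF_zero x
  | succ n ih =>
    have hxn := ih (by omega)
    rw [← grK_eq_zero_iff P hxn]
    obtain ⟨N, hN, hNx⟩ := hxn
    have h1 : ch P hK n x = 0 := by
      rw [← proj_chHom P hK d n (by omega), hx, map_zero]
    have h2 : ch P hK n ((N : K) * x) = 0 := by
      rw [← nsmul_eq_mul, map_nsmul, h1, smul_zero]
    rw [ch_of_mem P hK n _ hNx, grK_natCast_mul, ← Nat.cast_smul_eq_nsmul ℚ] at h2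
    have hN0 : (N : ℚ) ≠ 0 := by positivity
    exact (smul_eq_zero_iff_right hN0).mp h2

lemma Phi_injective (hd : gammaFiltration P (d + 1) = ⊥) : Function.Injective (Phi P hK d) := by
  rw [injective_iff_map_eq_zero]
  intro z hz
  obtain ⟨N, x, hN, rfl⟩ := exists_tmul z
  have hN0 : (N : ℚ) ≠ 0 := by positivity
  rw [Phi_tmul] at hz
  have hx : chHom P hK d x = 0 := (smul_eq_zero_iff_right (by positivity)).mp hz
  obtain ⟨M, hM, hMx⟩ := mem_QF_of_chHom_eq_zero P hK d x hx (d + 1) le_rfl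
  have hM0 : (M : ℚ) ≠ 0 := by positivity
  rw [hd, AddSubgroup.mem_bot] at hMx
  have h1 : (1 / (N : ℚ)) = (M : ℤ) • (1 / ((N : ℚ) * M)) := by
    rw [zsmul_eq_mul]; push_cast; field_simp
  rw [h1, TensorProduct.smul_tmul, natCast_zsmul, nsmul_eq_mul, hMx, TensorProduct.tmul_zero]

lemma grK_mem_range (hd : gammaFiltration P (d + 1) = ⊥) (k n : ℕ) (hk : d + 1 ≤ n + k) (x : K)
    (hx : x ∈ gammaFiltration P n) : grK P (n : ℤ) x ∈ LinearMap.range (Phi P hK d) := by
  induction k using Nat.strong_induction_on generalizing n x with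
  | _ k ih =>
    rcases le_or_gt (d + 1) n with h | h
    · have : x ∈ gammaFiltration P (d + 1) := filtration_anti P h hx
      rw [hd, AddSubgroup.mem_bot] at this
      rw [this, grK_zero]
      exact Submodule.zero_mem _
    · have h1 : chHom P hK d x = ∑ m ∈ Finset.range (d + 1), ch P hK m x := chHom_eq_sum P hK d x
      have hn : n ∈ Finset.range (d + 1) := Finset.mem_range.mpr h
      rw [← Finset.add_sum_erase _ _ hn, ch_of_mem P hK n x hx] at h1
      rw [← sub_eq_iff_eq_add] at h1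
      rw [← h1]
      apply Submodule.sub_mem
      · refine ⟨1 ⊗ₜ x, ?_⟩
        rw [Phi_tmul, one_smul]
      · apply Submodule.sum_mem
        intro m hm
        rw [Finset.mem_erase, Finset.mem_range] at hm
        rcases lt_or_gt_of_ne hm.1 with h2 | h2
        · rw [ch_eq_zero_of_mem P hK n m h2 x hx]
          exact Submodule.zero_mem _
        · rw [ch_apply]
          apply Submodule.smul_mem
          exact ih (d + 1 - m) (by omega) m (by omega) _ (dl_mem P hK m x)

lemma Phi_surjective (hd : gammaFiltration P (d + 1) = ⊥) : Function.Surjective (Phi P hK d) := by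
  rw [← LinearMap.range_eq_top, eq_top_iff]
  intro z _
  refine gr_induction P (motive := fun z => z ∈ LinearMap.range (Phi P hK d)) ?_ ?_ ?_ z
  · intro a b ha hb
    exact Submodule.add_mem _ ha hb
  · intro q a ha
    exact Submodule.smul_mem _ q ha
  · intro n x hx
    exact grK_mem_range P hK d hd (d + 1) n (by omega) x hx

include hK in
/-- **The Chern character is a bijection `ℚ ⊗ K ≅ ℚGr K`** -/
theorem exists_linear (hd : gammaFiltration P (d + 1) = ⊥) :
    ∃ Φ : TensorProduct ℤ ℚ K →ₗ[ℚ] KGr.Gr P, (∀ x : K, Φ ((1 : ℚ) ⊗ₜ[ℤ] x) = KGr.chK P d x) ∧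
      Function.Bijective Φ := by
  refine ⟨Phi P hK d, ?_, Phi_injective P hK d hd, Phi_surjective P hK d hd⟩
  intro x
  rw [Phi_tmul, one_smul, chHom_apply]

end Groth.Agent.Krr.H493.ChBij
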