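import Groth.Agent.Krr.H493.ChK

/-!
# Multiplicativity of the Chern character, compatibility with the Adams operations
-/

set_option autoImplicit false
universe u v

open scoped TensorProduct
open LambdaRing KGr

namespace Groth.Agent.Krr.H493.ChMul

open Groth.Agent.Books.Lambda1 Groth.Agent.Books.Lambda2 Groth.Agent.Books.Lambda3
open Groth.Agent.Krr.H493.AdamsDiff Groth.Agent.Krr.H493.ChK
open Groth.Agent.Krr.H500.GrK Groth.Agent.Krr.H493.GrBasis

section dlmul

variable {K : Type u} [CommRing K] [LambdaOps K] (P : PosStructure K)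

/-- the right hand side of the product formula for `dl`, as a biadditive map -/
noncomputable def dmul (n : ℕ) : K →+ K →+ K :=
  ∑ m ∈ Finset.range (n + 1), ∑ l ∈ Finset.range (n - m + 1),
    (n.choose m * (n - m).choose l) •
      ((AddMonoidHom.compl₂ (AddMonoidHom.mul : K →+ K →+ K) (dl P (n - l))).comp (dl P (l + m)))

lemma dmul_apply (n : ℕ) (x y : K) : dmul P n x y =
    ∑ m ∈ Finset.range (n + 1), ∑ l ∈ Finset.range (n - m + 1),
      (n.choose m * (n - m).choose l) • (dl P (l + m) x * dl P (n - l) y) := by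
  rw [dmul, AddMonoidHom.finsetSum_apply, AddMonoidHom.finsetSum_apply]
  apply Finset.sum_congr rfl
  intro m _
  rw [AddMonoidHom.finsetSum_apply, AddMonoidHom.finsetSum_apply]
  rfl

lemma dmul_line (n : ℕ) (u v : K) (hu : P.IsLine u) (hv : P.IsLine v) :
    dmul P n u v = dl P n (u * v) := by
  rw [dl_line P n _ (IsLine_mul P hu hv), dmul_apply]
  have h1 : u * v - 1 = (u - 1) * (v - 1) + ((u - 1) + (v - 1)) := by ring
  rw [h1, add_pow]
  apply Finset.sum_congr rfl
  intro m hm
  have hm' : m ≤ n := by
    have := Finset.mem_range.mp hm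
    omega
  rw [add_pow, Finset.mul_sum, Finset.sum_mul]
  apply Finset.sum_congr rfl
  intro l hl
  have hl' : l ≤ n - m := by
    have := Finset.mem_range.mp hl
    omega
  rw [dl_line P _ _ hu, dl_line P _ _ hv, nsmul_eq_mul, pow_add, mul_pow]
  have h2 : n - l = m + (n - m - l) := by omega
  rw [h2, pow_add]
  push_cast
  ring

lemma dmul_multiset (n : ℕ) (s t : Multiset K) (hs : ∀ u ∈ s, P.IsLine u)
    (ht : ∀ v ∈ t, P.IsLine v) : dmul P n s.sum t.sum = dl P n (s.sum * t.sum) := by
  induction s using Multiset.induction_on with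
  | empty => simp
  | cons u s ih =>
    have hu := hs u (Multiset.mem_cons_self _ _)
    rw [Multiset.sum_cons, map_add, AddMonoidHom.add_apply, add_mul, map_add,
      ih (fun v hv => hs v (Multiset.mem_cons_of_mem hv))]
    congr 1
    clear ih hs
    induction t using Multiset.induction_on with
    | empty => simp
    | cons w t iht =>
      rw [Multiset.sum_cons, map_add, mul_add, map_add,
        iht (fun v hv => ht v (Multiset.mem_cons_of_mem hv)),
        dmul_line P n u w hu (ht w (Multiset.mem_cons_self _ _))]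

lemma map_dmul {K' : Type u} [CommRing K'] [LambdaOps K'] {P : PosStructure K}
    {P' : PosStructure K'} {f : K →+* K'} (hf : IsExtension P P' f) (n : ℕ) (x y : K) :
    f (dmul P n x y) = dmul P' n (f x) (f y) := by
  rw [dmul_apply, dmul_apply, map_sum]
  apply Finset.sum_congr rfl
  intro m _
  rw [map_sum]
  apply Finset.sum_congr rfl
  intro l _
  rw [map_nsmul, map_mul, map_dl hf, map_dl hf]

/-- **Product formula for the differences of the Adams operations** (exact) -/
theorem dl_mul (hK : HasSplitting K P) (n : ℕ) (x y : K) :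
    dl P n (x * y) = ∑ m ∈ Finset.range (n + 1), ∑ l ∈ Finset.range (n - m + 1),
      (n.choose m * (n - m).choose l) • (dl P (l + m) x * dl P (n - l) y) := by
  rw [← dmul_apply]
  symm
  have key : ∀ a ∈ P.pos, ∀ b ∈ P.pos, dmul P n a b = dl P n (a * b) := by
    intro a ha b hb
    obtain ⟨L', f, hf, ⟨s, hs, hsum⟩, ⟨t, ht, htsum⟩⟩ := exists_split₂ P hK a b ha hb
    apply hf.injective
    rw [map_dmul hf, map_dl hf, map_mul, ← hsum, ← htsum]
    exact dmul_multiset _ n s t hs ht
  obtain ⟨a, b, ha, hb, rfl⟩ := P.exists_sub x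
  obtain ⟨c, e, hc, he, rfl⟩ := P.exists_sub y
  have h1 : (a - b) * (c - e) = a * c - a * e - b * c + b * e := by ring
  rw [h1]
  simp only [map_sub, map_add, AddMonoidHom.sub_apply]
  rw [key a ha c hc, key a ha e he, key b hb c hc, key b hb e he]
  abel

/-- `Δ^n(xy) ≡ Σ C(n,l) Δ^l(x) Δ^{n-l}(y)` modulo `F^{n+1}` -/
lemma dl_mul_sub_mem (hK : HasSplitting K P) (n : ℕ) (x y : K) :
    dl P n (x * y) - ∑ l ∈ Finset.range (n + 1), n.choose l • (dl P l x * dl P (n - l) y) ∈
      gammaFiltration P (n + 1) := by
  rw [dl_mul P hK, Finset.sum_range_succ']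
  have h0 : ∑ l ∈ Finset.range (n - 0 + 1),
      (n.choose 0 * (n - 0).choose l) • (dl P (l + 0) x * dl P (n - l) y) =
      ∑ l ∈ Finset.range (n + 1), n.choose l • (dl P l x * dl P (n - l) y) := by
    simp
  rw [h0, add_sub_cancel_right]
  apply AddSubgroup.sum_mem
  intro m _
  apply AddSubgroup.sum_mem
  intro l hl
  apply AddSubgroup.nsmul_mem
  rcases le_or_gt (m + 1) n with h | h
  · have hl' : l ≤ n - (m + 1) := by
      have := Finset.mem_range.mp hl
      omega
    exact filtration_anti P (by omega)
      (mul_mem_filtration P _ _ _ _ (dl_mem P hK (l + (m + 1)) x) (dl_mem P hK (n - l) y))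
  · have hl' : l = 0 := by
      have := Finset.mem_range.mp hl
      omega
    subst hl'
    exact filtration_anti P (by omega)
      (mul_mem_filtration P _ _ _ _ (dl_mem P hK (0 + (m + 1)) x) (dl_mem P hK (n - 0) y))

/-- the differences of the Adams operations commute with the Adams operations -/
lemma dl_adams (hK : HasSplitting K P) (n j : ℕ) (x : K) :
    dl P n (adams P j x) = adams P j (dl P n x) := by
  rw [dl_apply, dl_apply, ← adamsHom_apply P j (∑ k ∈ _, _), map_sum]
  apply Finset.sum_congr rfl
  intro k _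
  rw [map_zsmul, adamsHom_apply, adams_adams P hK, adams_adams P hK, mul_comm k j]

end dlmul

section ch

variable {K : Type v} [CommRing K] [LambdaRing.LambdaOps K] (P : LambdaRing.PosStructure K)
  (hK : HasSplitting K P)

/-- the components of the Chern character of a product -/
theorem ch_mul (n : ℕ) (x y : K) :
    ch P hK n (x * y) = ∑ l ∈ Finset.range (n + 1), ch P hK l x * ch P hK (n - l) y := by
  have hd : ∀ i z, dl P i z ∈ QF P i := fun i z => mem_QF_of_mem (dl_mem P hK i z)
  have hmem : ∀ l ∈ Finset.range (n + 1), n.choose l • (dl P l x * dl P (n - l) y) ∈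
      QF P (n : ℤ).toNat := by
    intro l hl
    have hl' : l ≤ n := by
      have := Finset.mem_range.mp hl
      omega
    apply AddSubgroup.nsmul_mem
    have := mul_mem_QF (P := P) (hd l x) (hd (n - l) y)
    have e : l + (n - l) = (n : ℤ).toNat := by omega
    rwa [e] at this
  have h1 : dl P n (x * y) = (dl P n (x * y) -
      ∑ l ∈ Finset.range (n + 1), n.choose l • (dl P l x * dl P (n - l) y)) +
      ∑ l ∈ Finset.range (n + 1), n.choose l • (dl P l x * dl P (n - l) y) := by ring
  rw [ch_apply, h1, grK_add P _ ((QF P _).sum_mem hmem), grK_eq_zero_of_mem P (n := (n : ℤ)),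
    zero_add, grK_sum P _ _ hmem, Finset.smul_sum]
  · apply Finset.sum_congr rfl
    intro l hl
    have hl' : l ≤ n := by
      have := Finset.mem_range.mp hl
      omega
    rw [nsmul_eq_mul, grK_natCast_mul, ← Nat.cast_smul_eq_nsmul ℚ, smul_smul, ch_apply, ch_apply,
      smul_mul_smul_comm, grK_mul P (hd _ _) (hd _ _)]
    congr 1
    · rw [Nat.choose_eq_factorial_div_factorial hl', Nat.cast_div
        (Nat.factorial_mul_factorial_dvd_factorial hl') (by positivity)]
      have h2 : (n.factorial : ℚ) ≠ 0 := by positivity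
      have h3 : (l.factorial : ℚ) ≠ 0 := by positivity
      have h4 : ((n - l).factorial : ℚ) ≠ 0 := by positivity
      push_cast
      field_simp
    · congr 1
      omega
  · exact mem_QF_of_mem (by exact_mod_cast dl_mul_sub_mem P hK n x y)
  · apply mem_QF_of_mem
    exact filtration_anti P (by simp) (dl_mul_sub_mem P hK n x y)

/-- the component of degree `n` of the Chern character of `ψ^j x` is `j^n` times that of `x` -/
theorem ch_adams (n j : ℕ) (x : K) : ch P hK n (adams P j x) = ((j : ℚ) ^ n) • ch P hK n x := by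
  have h := (Good_of_mem P hK j n _ (dl_mem P hK n x)).2
  have h1 : adams P j (dl P n x) = (adams P j (dl P n x) - (j : K) ^ n * dl P n x) +
      ((j ^ n : ℕ) : K) * dl P n x := by push_cast; ring
  rw [ch_apply, dl_adams P hK, h1, grK_add, grK_eq_zero_of_mem P (n := (n : ℤ)), zero_add,
    grK_natCast_mul, ← Nat.cast_smul_eq_nsmul ℚ, ch_apply, smul_comm]
  · push_cast
    rfl
  · exact mem_QF_of_mem (by exact_mod_cast h)
  · exact mem_QF_of_mem (filtration_anti P (by simp) h)
  · exact mem_QF_of_mem (mul_mem_filtration_left P _ _ _ (by simpa using dl_mem P hK n x))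

lemma ch_one (n : ℕ) : ch P hK n (1 : K) = if n = 0 then 1 else 0 := by
  rw [ch_apply, dl_line P n 1 (isLine_one P), sub_self]
  split_ifs with h
  · subst h
    simp only [Nat.factorial_zero, Nat.cast_one, div_one, one_smul, pow_zero]
    exact grK_zero_one P
  · rw [zero_pow h, grK_zero, smul_zero]

lemma ch_eq_zero_of_lt {d : ℕ} (hd : gammaFiltration P (d + 1) = ⊥) (n : ℕ) (hn : d < n) (x : K) :
    ch P hK n x = 0 := by
  have h : dl P n x ∈ gammaFiltration P (d + 1) := filtration_anti P (by omega) (dl_mem P hK n x)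
  rw [hd, AddSubgroup.mem_bot] at h
  rw [ch_apply, h, grK_zero, smul_zero]

/-- **The Chern character is multiplicative** when `F^{d+1} K = 0` -/
theorem chHom_mul {d : ℕ} (hd : gammaFiltration P (d + 1) = ⊥) (x y : K) :
    chHom P hK d (x * y) = chHom P hK d x * chHom P hK d y := by
  have h1 : ∀ (z : K) (N : ℕ), d ≤ N → chHom P hK d z = ∑ n ∈ Finset.range (N + 1), ch P hK n z := by
    intro z N hN
    rw [chHom_eq_sum]
    apply Finset.sum_subset
    · intro i hi
      rw [Finset.mem_range] at hi ⊢
      omega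
    · intro i _ hi
      rw [Finset.mem_range] at hi
      exact ch_eq_zero_of_lt P hK hd i (by omega) z
  rw [h1 (x * y) (d + d) (by omega), chHom_eq_sum P hK d x, chHom_eq_sum P hK d y]
  simp only [ch_mul]
  rw [Finset.sum_mul_sum, ← Finset.sum_product', Finset.sum_sigma']
  symm
  apply Finset.sum_of_injOn (fun p : ℕ × ℕ => (⟨p.1 + p.2, p.1⟩ : (_ : ℕ) × ℕ))
  · rintro ⟨a, b⟩ _ ⟨c, e⟩ _ h
    simp only [Sigma.mk.injEq, heq_eq_eq] at h
    ext
    · exact h.2
    · dsimp only
      omega
  · rintro ⟨a, b⟩ h
    simp only [Finset.coe_product, Set.mem_prod, Finset.coe_range, Set.mem_Iio] at h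
    simp only [Finset.coe_sigma, Set.mem_sigma_iff, Finset.coe_range, Set.mem_Iio]
    omega
  · rintro ⟨n, l⟩ h1 h2
    simp only [Finset.mem_sigma, Finset.mem_range] at h1
    dsimp only
    by_cases hl : d < l
    · rw [ch_eq_zero_of_lt P hK hd l hl, zero_mul]
    · by_cases hl' : d < n - l
      · rw [ch_eq_zero_of_lt P hK hd (n - l) hl', mul_zero]
      · exfalso
        apply h2
        refine ⟨(l, n - l), ?_, ?_⟩
        · simp only [Finset.coe_product, Set.mem_prod, Finset.coe_range, Set.mem_Iio]
          omega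
        · simp only [Sigma.mk.injEq, heq_eq_eq, and_true]
          omega
  · rintro ⟨a, b⟩ _
    dsimp only
    rw [Nat.add_sub_cancel_left]

/-- the Chern character as a ring homomorphism when `F^{d+1} K = 0` -/
noncomputable def chRingHom {d : ℕ} (hd : gammaFiltration P (d + 1) = ⊥) : K →+* Gr P where
  toFun := chHom P hK d
  map_one' := by
    rw [chHom_eq_sum, Finset.sum_range_succ']
    simp [ch_one]
  map_mul' := chHom_mul P hK hd
  map_zero' := map_zero _
  map_add' := map_add _

lemma chRingHom_apply {d : ℕ} (hd : gammaFiltration P (d + 1) = ⊥) (x : K) :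
    chRingHom P hK hd x = chK P d x := chHom_apply P hK d x

/-- the Chern character of a line element is the (truncated) exponential of `[u - 1]_1` -/
lemma ch_line (n : ℕ) (u : K) (hu : P.IsLine u) :
    ch P hK n u = (1 / (Nat.factorial n : ℚ)) • (grK P 1 (u - 1)) ^ n := by
  have hmem : u - 1 ∈ gammaFiltration P 1 := by
    have := gamma_sub_aug_mem P 1 u
    rwa [gamma_one, hu.2, Int.cast_one] at this
  have h1 : ∀ n : ℕ, grK P (n : ℤ) ((u - 1) ^ n) = (grK P 1 (u - 1)) ^ n := by
    intro n
    induction n with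
    | zero =>
      rw [pow_zero, pow_zero]
      exact grK_zero_one P
    | succ n ih =>
      rw [pow_succ, pow_succ, ← ih]
      have hn : (u - 1) ^ n ∈ gammaFiltration P n := by
        have := dl_mem P hK n u
        rwa [dl_line P n u hu] at this
      have := grK_mul P (mem_QF_of_mem hn) (mem_QF_of_mem hmem)
      push_cast at this ⊢
      rw [this]
  rw [ch_apply, dl_line P n u hu, h1]

end ch

end Groth.Agent.Krr.H493.ChMul
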