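import Groth.Agent.Books.Lambda3
import Mathlib.RingTheory.MvPolynomial.Symmetric.NewtonIdentities

/-!
# Power sums of a power series, Newton's identities, differences of the Adams operations
-/

set_option autoImplicit false
universe u v

open PowerSeries Finset

namespace Groth.Agent.Krr.H493.Newton

section series

variable {R : Type v} [CommRing R]

/-- the series of power sums of the roots of `A(-t)`: `- t A(-t)' / A(-t)`; for
`A = ∏ (1 + a_i t)` it is `∑_i ∑_{n ≥ 1} a_i ^ n t ^ n`. -/
noncomputable def pw (A : PowerSeries R) : PowerSeries R :=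
  -(X * derivative R (rescale (-1 : R) A) * (rescale (-1 : R) A).invOfUnit 1)

lemma rescale_mul_inv {A : PowerSeries R} (hA : constantCoeff A = 1) :
    rescale (-1 : R) A * (rescale (-1 : R) A).invOfUnit 1 = 1 := by
  apply mul_invOfUnit
  rw [← coeff_zero_eq_constantCoeff_apply, coeff_rescale, pow_zero, one_mul,
    coeff_zero_eq_constantCoeff_apply, hA]
  rfl

lemma pw_mul_rescale {A : PowerSeries R} (hA : constantCoeff A = 1) :
    pw A * rescale (-1 : R) A = -(X * derivative R (rescale (-1 : R) A)) := by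
  have h := rescale_mul_inv hA
  rw [pw]
  linear_combination (-(X * derivative R (rescale (-1 : R) A))) * h

lemma eq_pw_of_mul {A B : PowerSeries R} (hA : constantCoeff A = 1)
    (h : B * rescale (-1 : R) A = -(X * derivative R (rescale (-1 : R) A))) : B = pw A := by
  have h1 := rescale_mul_inv hA
  have h2 := pw_mul_rescale hA
  calc B = B * (rescale (-1 : R) A * (rescale (-1 : R) A).invOfUnit 1) := by rw [h1, mul_one]
    _ = (B * rescale (-1 : R) A) * (rescale (-1 : R) A).invOfUnit 1 := by ring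
    _ = (pw A * rescale (-1 : R) A) * (rescale (-1 : R) A).invOfUnit 1 := by rw [h, h2]
    _ = pw A * (rescale (-1 : R) A * (rescale (-1 : R) A).invOfUnit 1) := by ring
    _ = pw A := by rw [h1, mul_one]

lemma pw_mul {A B : PowerSeries R} (hA : constantCoeff A = 1) (hB : constantCoeff B = 1) :
    pw (A * B) = pw A + pw B := by
  symm
  apply eq_pw_of_mul (by rw [map_mul, hA, hB, one_mul])
  have h1 := pw_mul_rescale hA
  have h2 := pw_mul_rescale hB
  rw [map_mul, Derivation.leibniz, smul_eq_mul, smul_eq_mul]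
  linear_combination (rescale (-1 : R) B) * h1 + (rescale (-1 : R) A) * h2

lemma pw_one : pw (1 : PowerSeries R) = 0 := by
  rw [pw]
  simp

lemma coeff_zero_pw (A : PowerSeries R) : coeff 0 (pw A) = 0 := by
  rw [pw, map_neg, mul_assoc, coeff_zero_X_mul, neg_zero]

lemma pw_prod {ι : Type*} (s : Finset ι) (A : ι → PowerSeries R)
    (hA : ∀ i ∈ s, constantCoeff (A i) = 1) : pw (∏ i ∈ s, A i) = ∑ i ∈ s, pw (A i) := by
  classical
  induction s using Finset.induction_on with
  | empty => simp [pw_one]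
  | insert a s ha ih =>
    rw [Finset.prod_insert ha, Finset.sum_insert ha, pw_mul (hA _ (Finset.mem_insert_self _ _)),
      ih (fun i hi => hA i (Finset.mem_insert_of_mem hi))]
    rw [map_prod]
    exact Finset.prod_eq_one (fun i hi => hA i (Finset.mem_insert_of_mem hi))

lemma coeff_pw_linear (a : R) (n : ℕ) (hn : n ≠ 0) : coeff n (pw (1 + C a * X)) = a ^ n := by
  have h0 : rescale (-1 : R) (1 + C a * X) = 1 - C a * X := by
    rw [map_add, map_one, map_mul, rescale_X, sub_eq_add_neg]
    congr 1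
    have : rescale (-1 : R) (C a) = C a := by
      ext n
      rw [coeff_rescale, coeff_C]
      split_ifs with h
      · simp [h]
      · simp
    rw [this]
    simp
  have h1 : (1 - C a * X) * PowerSeries.mk (fun n => a ^ n) = 1 := by
    ext n
    rw [sub_mul, one_mul, map_sub, coeff_mk, mul_assoc, coeff_C_mul, mul_comm X, coeff_one]
    rcases n with _ | n
    · simp
    · rw [coeff_succ_mul_X, coeff_mk, if_neg (by omega), pow_succ]
      ring
  have h2 : PowerSeries.mk (fun n => a ^ n) - 1 = pw (1 + C a * X) := by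
    apply eq_pw_of_mul (by simp)
    rw [h0]
    have h4 : (derivative R) (1 - C a * X) = - C a := by
      rw [map_sub, Derivation.leibniz]
      simp
    rw [h4]
    linear_combination h1
  rw [← h2, map_sub, coeff_mk, coeff_one, if_neg hn, sub_zero]

/-- Newton's identities for the series `pw A`. -/
lemma sum_antidiagonal_pw {A : PowerSeries R} (hA : constantCoeff A = 1) (n : ℕ) :
    ∑ p ∈ antidiagonal n, (-1) ^ p.1 * coeff p.1 A * coeff p.2 (pw A) =
      (-1) ^ (n + 1) * n * coeff n A := by
  have h := congrArg (coeff n) (pw_mul_rescale hA)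
  rw [mul_comm (pw A), coeff_mul] at h
  simp only [coeff_rescale] at h
  rw [h, map_neg]
  rcases n with _ | n
  · simp
  · rw [mul_comm X, coeff_succ_mul_X, coeff_derivative, coeff_rescale]
    push_cast
    ring

/-- a sequence `p` satisfying Newton's identities with respect to `a` up to degree `d` -/
def IsNewton (d : ℕ) (a p : ℕ → R) : Prop :=
  ∀ n, 1 ≤ n → n ≤ d → p n = (-1) ^ (n + 1) * n * a n -
    ∑ q ∈ antidiagonal n with q.1 ∈ Set.Ioo 0 n, (-1) ^ q.1 * a q.1 * p q.2

lemma IsNewton.unique {d : ℕ} {a p q : ℕ → R} (hp : IsNewton d a p) (hq : IsNewton d a q) :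
    ∀ n, 1 ≤ n → n ≤ d → p n = q n := by
  intro n
  induction n using Nat.strong_induction_on with
  | _ n ih =>
    intro h1 h2
    rw [hp n h1 h2, hq n h1 h2]
    congr 1
    apply Finset.sum_congr rfl
    rintro ⟨i, j⟩ hij
    rw [Finset.mem_filter, mem_antidiagonal] at hij
    obtain ⟨h3, h4, h5⟩ := hij
    dsimp only at h3 h4 h5 ⊢
    rw [ih j (by omega) (by omega) (by omega)]

lemma IsNewton.congr {d : ℕ} {a a' p p' : ℕ → R} (h : IsNewton d a p)
    (ha : ∀ n, 1 ≤ n → n ≤ d → a n = a' n) (hp : ∀ n, 1 ≤ n → n ≤ d → p n = p' n) :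
    IsNewton d a' p' := by
  intro n h1 h2
  rw [← hp n h1 h2, ← ha n h1 h2, h n h1 h2]
  congr 1
  apply Finset.sum_congr rfl
  rintro ⟨i, j⟩ hij
  rw [Finset.mem_filter, mem_antidiagonal] at hij
  obtain ⟨h3, h4, h5⟩ := hij
  dsimp only at h3 h4 h5 ⊢
  rw [ha i (by omega) (by omega), hp j (by omega) (by omega)]

lemma IsNewton.map {S : Type*} [CommRing S] (f : R →+* S) {d : ℕ} {a p : ℕ → R}
    (h : IsNewton d a p) : IsNewton d (fun n => f (a n)) (fun n => f (p n)) := by
  intro n h1 h2
  dsimp only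
  rw [h n h1 h2, map_sub, map_sum]
  simp

lemma IsNewton.of_map {S : Type*} [CommRing S] (f : R →+* S) (hf : Function.Injective f) {d : ℕ}
    {a p : ℕ → R} (h : IsNewton d (fun n => f (a n)) (fun n => f (p n))) : IsNewton d a p := by
  intro n h1 h2
  apply hf
  rw [map_sub, map_sum]
  have := h n h1 h2
  dsimp only at this
  rw [this]
  simp

lemma filter_antidiagonal (n : ℕ) (hn : 1 ≤ n) :
    antidiagonal n = insert (0, n) (insert (n, 0) {q ∈ antidiagonal n | q.1 ∈ Set.Ioo 0 n}) := by
  ext ⟨i, j⟩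
  simp only [mem_antidiagonal, mem_insert, mem_filter, Set.mem_Ioo, Prod.mk.injEq]
  omega

lemma isNewton_pw {A : PowerSeries R} (hA : constantCoeff A = 1) (d : ℕ) :
    IsNewton d (fun n => coeff n A) (fun n => coeff n (pw A)) := by
  intro n h1 h2
  have h := sum_antidiagonal_pw hA n
  rw [filter_antidiagonal n h1, Finset.sum_insert, Finset.sum_insert] at h
  · dsimp only at h ⊢
    rw [coeff_zero_pw, pow_zero, coeff_zero_eq_constantCoeff_apply, hA] at h
    linear_combination h
  · simp
  · simp only [mem_insert, mem_filter, mem_antidiagonal, Set.mem_Ioo, Prod.mk.injEq, not_or]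
    omega

end series

section psum

/-- the polynomial expressing the `n`-th power sum by the elementary symmetric polynomials -/
noncomputable def psumPoly (d n : ℕ) : MvPolynomial (Fin d) ℚ :=
  (MvPolynomial.esymmAlgEquiv (Fin d) ℚ (Fintype.card_fin d)).symm
    ⟨MvPolynomial.psum (Fin d) ℚ n, MvPolynomial.psum_isSymmetric (Fin d) ℚ n⟩

/-- the sequence of variables: `X_{n-1}` for `1 ≤ n ≤ d` -/
noncomputable def varSeq (d n : ℕ) : MvPolynomial (Fin d) ℚ :=
  (MvPolynomial.esymmAlgEquiv (Fin d) ℚ (Fintype.card_fin d)).symm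
    ⟨MvPolynomial.esymm (Fin d) ℚ n, MvPolynomial.esymm_isSymmetric (Fin d) ℚ n⟩

lemma varSeq_succ (d : ℕ) (i : Fin d) : varSeq d (i + 1) = MvPolynomial.X i :=
  MvPolynomial.esymmAlgEquiv_symm_apply (σ := Fin d) ℚ (Fintype.card_fin d) i

/-- the embedding of `ℚ[X_1, …, X_d]` into itself by the elementary symmetric polynomials -/
noncomputable def symmHom (d : ℕ) : MvPolynomial (Fin d) ℚ →+* MvPolynomial (Fin d) ℚ :=
  ((MvPolynomial.symmetricSubalgebra (Fin d) ℚ).val.comp
    (MvPolynomial.esymmAlgEquiv (Fin d) ℚ (Fintype.card_fin d)).toAlgHom).toRingHom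

lemma symmHom_injective (d : ℕ) : Function.Injective (symmHom d) := by
  have h : (symmHom d : MvPolynomial (Fin d) ℚ → MvPolynomial (Fin d) ℚ) =
      Subtype.val ∘ (MvPolynomial.esymmAlgEquiv (Fin d) ℚ (Fintype.card_fin d)) := rfl
  rw [h]
  exact Subtype.val_injective.comp (AlgEquiv.injective _)

lemma symmHom_symm (d : ℕ) (p : MvPolynomial.symmetricSubalgebra (Fin d) ℚ) :
    symmHom d ((MvPolynomial.esymmAlgEquiv (Fin d) ℚ (Fintype.card_fin d)).symm p) = p := by
  change ((MvPolynomial.esymmAlgEquiv (Fin d) ℚ (Fintype.card_fin d)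
    ((MvPolynomial.esymmAlgEquiv (Fin d) ℚ (Fintype.card_fin d)).symm p) :
      MvPolynomial.symmetricSubalgebra (Fin d) ℚ) : MvPolynomial (Fin d) ℚ) = p
  rw [AlgEquiv.apply_symm_apply]

lemma isNewton_psumPoly (d : ℕ) : IsNewton d (varSeq d) (psumPoly d) := by
  apply IsNewton.of_map (symmHom d) (symmHom_injective d)
  intro n h1 h2
  dsimp only [psumPoly, varSeq]
  simp only [symmHom_symm]
  exact MvPolynomial.psum_eq_mul_esymm_sub_sum (Fin d) ℚ n h1

end psum

end Groth.Agent.Krr.H493.Newton
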