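import Groth.Agent.Krr.H493.Newton
import Mathlib.Algebra.Group.ForwardDiff

/-!
# Differences of the Adams operations and the gamma filtration
-/

set_option autoImplicit false
universe u v

open PowerSeries Finset LambdaRing

namespace Groth.Agent.Krr.H493.AdamsDiff

open Groth.Agent.Books.Lambda1 Groth.Agent.Books.Lambda2 Groth.Agent.Books.Lambda3
open Groth.Agent.Krr.H493.Newton

lemma map_pw {R : Type u} {S : Type v} [CommRing R] [CommRing S] (f : R →+* S) {A : PowerSeries R}
    (hA : constantCoeff A = 1) : PowerSeries.map f (pw A) = pw (PowerSeries.map f A) := by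
  have hr : PowerSeries.map f (rescale (-1 : R) A) = rescale (-1 : S) (PowerSeries.map f A) := by
    ext n
    simp [coeff_rescale]
  apply eq_pw_of_mul
  · rw [← coeff_zero_eq_constantCoeff_apply, coeff_map, coeff_zero_eq_constantCoeff_apply, hA,
      map_one]
  · rw [← hr, ← map_mul, pw_mul_rescale hA, map_neg, map_mul, map_X]
    congr 2
    ext n
    simp [coeff_derivative]

variable {K : Type u} [CommRing K] [LambdaOps K] (P : PosStructure K)

/-- the `n`-th difference at `0` of `k ↦ ψ^k(x)` -/
noncomputable def dl (n : ℕ) : K →+ K :=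
  ∑ k ∈ range (n + 1), ((-1 : ℤ) ^ (n - k) * n.choose k) • adamsHom P k

lemma dl_apply (n : ℕ) (x : K) :
    dl P n x = ∑ k ∈ range (n + 1), ((-1 : ℤ) ^ (n - k) * n.choose k) • adams P k x := by
  simp [dl]

lemma dl_zero (x : K) : dl P 0 x = (P.aug x : K) := by
  simp [dl_apply, adams_zero_eq]

lemma map_dl {K' : Type u} [CommRing K'] [LambdaOps K'] {P : PosStructure K}
    {P' : PosStructure K'} {f : K →+* K'} (hf : IsExtension P P' f) (n : ℕ) (x : K) :
    f (dl P n x) = dl P' n (f x) := by
  rw [dl_apply, dl_apply, map_sum]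
  apply Finset.sum_congr rfl
  intro k _
  rw [map_zsmul, map_adams hf]

lemma dl_line (n : ℕ) (u : K) (hu : P.IsLine u) : dl P n u = (u - 1) ^ n := by
  rw [dl_apply, sub_eq_add_neg, add_pow]
  apply Finset.sum_congr rfl
  intro k _
  rw [adams_line P u hu, zsmul_eq_mul]
  push_cast
  ring

/-- the series `γ_t(x - ε x)` -/
noncomputable def gs (x : K) : PowerSeries K := gammaSeries (x - (P.aug x : K))

lemma gs_add (x y : K) : gs P (x + y) = gs P x * gs P y := by
  rw [gs, gs, gs, ← gammaSeries_add]
  congr 1
  rw [map_add]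
  push_cast
  ring

lemma constantCoeff_gs (x : K) : constantCoeff (gs P x) = 1 := constantCoeff_gammaSeries _

lemma coeff_gs (x : K) (n : ℕ) : coeff n (gs P x) = gamma n (x - (P.aug x : K)) :=
  coeff_gammaSeries _ _

lemma coeff_gs_mem (x : K) (n : ℕ) : coeff n (gs P x) ∈ gammaFiltration P n := by
  rw [coeff_gs]
  apply gamma_mem_filtration
  simp

/-- the power sums of the series `γ_t(x - ε x)` as an additive map -/
noncomputable def pg (n : ℕ) : K →+ K :=
  AddMonoidHom.mk' (fun x => coeff n (pw (gs P x))) (by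
    intro x y
    rw [gs_add, pw_mul (constantCoeff_gs P x) (constantCoeff_gs P y), map_add])

lemma pg_apply (n : ℕ) (x : K) : pg P n x = coeff n (pw (gs P x)) := rfl

lemma map_gs {K' : Type u} [CommRing K'] [LambdaOps K'] {P : PosStructure K}
    {P' : PosStructure K'} {f : K →+* K'} (hf : IsExtension P P' f) (x : K) :
    PowerSeries.map f (gs P x) = gs P' (f x) := by
  ext n
  rw [coeff_map, coeff_gs, coeff_gs, map_gamma hf.isLambdaHom, map_sub, hf.aug_comp, map_intCast]

lemma map_pg {K' : Type u} [CommRing K'] [LambdaOps K'] {P : PosStructure K}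
    {P' : PosStructure K'} {f : K →+* K'} (hf : IsExtension P P' f) (n : ℕ) (x : K) :
    f (pg P n x) = pg P' n (f x) := by
  rw [pg_apply, pg_apply, ← map_gs hf, ← map_pw f (constantCoeff_gs P x), coeff_map]

lemma pg_line (n : ℕ) (hn : n ≠ 0) (u : K) (hu : P.IsLine u) : pg P n u = (u - 1) ^ n := by
  have h : gs P u = 1 + PowerSeries.C (u - 1) * X := by
    rw [gs, hu.2, Int.cast_one, gammaSeries_line_sub_one P u hu]
  rw [pg_apply, h, coeff_pw_linear _ _ hn]

/-- the power sums of the series `γ_t(x - ε x)` are the differences of the Adams operations -/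
lemma pg_eq_dl (hK : HasSplitting K P) (n : ℕ) (hn : n ≠ 0) (x : K) : pg P n x = dl P n x := by
  have key : ∀ e ∈ P.pos, pg P n e = dl P n e := by
    intro e he
    obtain ⟨L', -, f, hf, u, hu, husum⟩ := exists_split_fin P hK e he _ rfl
    apply hf.injective
    rw [map_pg hf, map_dl hf, ← husum, map_sum, map_sum]
    apply Finset.sum_congr rfl
    intro i _
    rw [pg_line _ n hn _ (hu i), dl_line _ n _ (hu i)]
  obtain ⟨a, b, ha, hb, rfl⟩ := P.exists_sub x
  rw [map_sub, map_sub, key a ha, key b hb]

/-- Newton's identities for the differences of the Adams operations -/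
lemma isNewton_dl (hK : HasSplitting K P) (d : ℕ) (x : K) :
    IsNewton d (fun n => gamma n (x - (P.aug x : K))) (fun n => dl P n x) := by
  apply (isNewton_pw (constantCoeff_gs P x) d).congr
  · intro n _ _
    exact coeff_gs P x n
  · intro n h1 _
    exact pg_eq_dl P hK n (by omega) x

lemma natCast_mul_mem {n : ℕ} (a : ℕ) {x : K} (hx : x ∈ gammaFiltration P n) :
    (a : K) * x ∈ gammaFiltration P n := mul_mem_filtration_left P n _ _ hx

lemma neg_one_pow_mul_mem {n : ℕ} (a : ℕ) {x : K} (hx : x ∈ gammaFiltration P n) :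
    (-1 : K) ^ a * x ∈ gammaFiltration P n := mul_mem_filtration_left P n _ _ hx

lemma dl_mem (hK : HasSplitting K P) (n : ℕ) (x : K) : dl P n x ∈ gammaFiltration P n := by
  induction n using Nat.strong_induction_on with
  | _ n ih =>
    rcases Nat.eq_zero_or_pos n with rfl | hn
    · exact mem_filtration_zero P _
    · have h := isNewton_dl P hK n x n hn le_rfl
      dsimp only at h
      rw [h]
      apply AddSubgroup.sub_mem
      · apply mul_mem_filtration_left
        apply gamma_mem_filtration
        simp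
      · apply AddSubgroup.sum_mem
        rintro ⟨i, j⟩ hij
        rw [Finset.mem_filter, mem_antidiagonal] at hij
        obtain ⟨h3, h4, h5⟩ := hij
        dsimp only at h3 h4 h5 ⊢
        rw [← h3]
        apply mul_mem_filtration
        · apply mul_mem_filtration_left
          apply gamma_mem_filtration
          simp
        · exact ih j (by omega)

lemma dl_mem_of_mem (hK : HasSplitting K P) (n r : ℕ) (x : K) (hx : x ∈ gammaFiltration P r) :
    dl P n x ∈ gammaFiltration P r := by
  rw [dl_apply]
  apply AddSubgroup.sum_mem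
  intro k _
  apply AddSubgroup.zsmul_mem
  exact (Good_of_mem P hK k r x hx).adams_mem P

lemma sum_choose_pow (n : ℕ) :
    ∑ k ∈ range (n + 1), ((-1 : ℤ) ^ (n - k) * n.choose k) * (k : ℤ) ^ n = (n.factorial : ℤ) := by
  have h := congrFun (fwdDiff_iter_eq_factorial (R := ℤ) (n := n)) 0
  rw [fwdDiff_iter_eq_sum_shift] at h
  simpa using h

lemma dl_sub_mem (hK : HasSplitting K P) (n : ℕ) (x : K) (hx : x ∈ gammaFiltration P n) :
    dl P n x - (n.factorial : K) * x ∈ gammaFiltration P (n + 1) := by
  have h1 : (n.factorial : K) * x =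
      ∑ k ∈ range (n + 1), ((-1 : ℤ) ^ (n - k) * n.choose k) • ((k : K) ^ n * x) := by
    have h := congrArg (Int.cast : ℤ → K) (sum_choose_pow n)
    rw [Int.cast_natCast] at h
    rw [← h]
    push_cast
    rw [Finset.sum_mul]
    apply Finset.sum_congr rfl
    intro k _
    rw [zsmul_eq_mul]
    push_cast
    ring
  rw [h1, dl_apply, ← Finset.sum_sub_distrib]
  apply AddSubgroup.sum_mem
  intro k _
  rw [← smul_sub]
  apply AddSubgroup.zsmul_mem
  exact (Good_of_mem P hK k n x hx).2

end Groth.Agent.Krr.H493.AdamsDiff
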