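import Groth.Agent.Krr.H493.GrBasis
import Groth.Agent.Krr.H493.AdamsDiff

/-!
# The Chern character `KGr.chK` through the differences of the Adams operations

`chK P d x = Σ_{n ≤ d} (1/n!) [Δ^n x]_n`, where `Δ^n x = dl P n x = Σ_k (-1)^(n-k) C(n,k) ψ^k(x)`.
-/

set_option autoImplicit false
universe v

open scoped TensorProduct
open LambdaRing KGr

namespace Groth.Agent.Krr.H493.ChK

open Groth.Agent.Books.Lambda1 Groth.Agent.Books.Lambda2
open Groth.Agent.Krr.H493.Newton Groth.Agent.Krr.H493.AdamsDiff
open Groth.Agent.Krr.H500.GrK Groth.Agent.Krr.H493.GrBasis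

variable {K : Type v} [CommRing K] [LambdaRing.LambdaOps K] (P : LambdaRing.PosStructure K)

lemma chern_zero (x : K) : chern P 0 x = 1 := by
  rw [chern, gamma_zero]
  exact grK_zero_one P

lemma gamma_sub_aug_mem (n : ℕ) (x : K) :
    gamma n (x - (P.aug x : K)) ∈ gammaFiltration P n := by
  apply gamma_mem_filtration
  simp

/-- Whitney sum formula for the Chern classes -/
lemma chern_add (n : ℕ) (x y : K) : chern P n (x + y) =
    ∑ i ∈ Finset.range (n + 1), chern P i x * chern P (n - i) y := by
  have h1 : x + y - (P.aug (x + y) : K) = (x - (P.aug x : K)) + (y - (P.aug y : K)) := by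
    rw [map_add]; push_cast; ring
  rw [chern, h1, gamma_add, grK_sum]
  · apply Finset.sum_congr rfl
    intro i hi
    have hi' : i ≤ n := by
      have := Finset.mem_range.mp hi
      omega
    rw [chern, chern, grK_mul P (mem_QF_of_mem (gamma_sub_aug_mem P _ _))
      (mem_QF_of_mem (gamma_sub_aug_mem P _ _))]
    congr 1
    omega
  · intro i hi
    have hi' : i ≤ n := by
      have := Finset.mem_range.mp hi
      omega
    have := mul_mem_QF (P := P) (mem_QF_of_mem (gamma_sub_aug_mem P i x))
      (mem_QF_of_mem (gamma_sub_aug_mem P (n - i) y))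
    have e : i + (n - i) = (n : ℤ).toNat := by omega
    rwa [e] at this

/-- the Chern polynomial of `x` as a power series over `ℚGr K` -/
noncomputable def chernSeries (x : K) : PowerSeries (Gr P) := PowerSeries.mk fun n => chern P n x

lemma coeff_chernSeries (n : ℕ) (x : K) : PowerSeries.coeff n (chernSeries P x) = chern P n x := by
  simp [chernSeries]

lemma chernSeries_add (x y : K) : chernSeries P (x + y) = chernSeries P x * chernSeries P y := by
  ext n
  rw [coeff_chernSeries, chern_add, PowerSeries.coeff_mul,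
    Finset.Nat.sum_antidiagonal_eq_sum_range_succ_mk]
  simp [coeff_chernSeries]

lemma constantCoeff_chernSeries (x : K) : PowerSeries.constantCoeff (chernSeries P x) = 1 := by
  rw [← PowerSeries.coeff_zero_eq_constantCoeff_apply, coeff_chernSeries, chern_zero]

variable (hK : HasSplitting K P)

include hK in
/-- Newton's identities relate the Chern classes and the classes of the differences of the Adams
operations -/
lemma isNewton_grK (d : ℕ) (x : K) :
    IsNewton d (fun n => chern P n x) (fun n => grK P (n : ℤ) (dl P n x)) := by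
  intro n h1 h2
  have h := isNewton_dl P hK n x n h1 le_rfl
  dsimp only at h ⊢
  have hg : ∀ i, gamma i (x - (P.aug x : K)) ∈ QF P i := fun i =>
    mem_QF_of_mem (gamma_sub_aug_mem P i x)
  have hd : ∀ i, dl P i x ∈ QF P i := fun i => mem_QF_of_mem (dl_mem P hK i x)
  have hneg : ∀ (a b : ℕ) (z : K), (-1 : K) ^ a * z = (((-1 : ℤ) ^ a : ℤ) : K) * z := by
    intro a b z
    push_cast
    rfl
  have e1 : (-1 : K) ^ (n + 1) * (n : K) * gamma n (x - (P.aug x : K)) =
      (((-1 : ℤ) ^ (n + 1) * (n : ℤ) : ℤ) : K) * gamma n (x - (P.aug x : K)) := by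
    push_cast
    rfl
  have hmem : ∀ q ∈ {q ∈ Finset.antidiagonal n | q.1 ∈ Set.Ioo 0 n},
      (-1 : K) ^ q.1 * gamma q.1 (x - (P.aug x : K)) * dl P q.2 x ∈ QF P (n : ℤ).toNat := by
    rintro ⟨i, j⟩ hij
    rw [Finset.mem_filter, Finset.mem_antidiagonal] at hij
    obtain ⟨h3, h4⟩ := hij
    dsimp only at h3 ⊢
    rw [mul_assoc]
    apply mul_mem_QF_left
    have := mul_mem_QF (P := P) (hg i) (hd j)
    rw [h3] at this
    simpa using this
  rw [h, grK_sub P _ ((QF P _).sum_mem hmem), grK_sum P _ _ hmem, e1, grK_intCast_mul]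
  · congr 1
    · rw [chern, zsmul_eq_mul]
      push_cast
      rfl
    · apply Finset.sum_congr rfl
      rintro ⟨i, j⟩ hij
      rw [Finset.mem_filter, Finset.mem_antidiagonal] at hij
      obtain ⟨h3, h4⟩ := hij
      dsimp only at h3 ⊢
      have e2 : (-1 : K) ^ i * gamma i (x - (P.aug x : K)) * dl P j x =
        (((-1 : ℤ) ^ i : ℤ) : K) * (gamma i (x - (P.aug x : K)) * dl P j x) := by
        push_cast
        ring
      rw [e2, grK_intCast_mul, zsmul_eq_mul, chern, mul_assoc, grK_mul P (hg i) (hd j)]
      push_cast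
      congr 2
      omega
  · rw [mul_assoc]
    apply mul_mem_QF_left
    apply mul_mem_QF_left
    exact hg _

include hK in
/-- the power sum of the Chern roots of degree `n` is the class of `Δ^n x` -/
lemma aeval_psumPoly (d n : ℕ) (h1 : 1 ≤ n) (h2 : n ≤ d) (x : K) :
    MvPolynomial.aeval (fun i : Fin d => chern P (i.1 + 1) x) (psumPoly d n) =
      grK P (n : ℤ) (dl P n x) := by
  let φ : MvPolynomial (Fin d) ℚ →+* Gr P :=
    (MvPolynomial.aeval (R := ℚ) (fun i : Fin d => chern P (i.1 + 1) x)).toRingHom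
  have ha := IsNewton.map (S := Gr P) φ (isNewton_psumPoly d)
  have hb : IsNewton d (fun n => chern P n x) (fun n => φ (psumPoly d n)) := by
    apply ha.congr
    · intro m hm1 hm2
      have : varSeq d m = MvPolynomial.X ⟨m - 1, by omega⟩ := by
        have := varSeq_succ d ⟨m - 1, by omega⟩
        dsimp only at this
        rwa [Nat.sub_add_cancel hm1] at this
      rw [this]
      change MvPolynomial.aeval (fun i : Fin d => chern P (i.1 + 1) x) _ = _
      rw [MvPolynomial.aeval_X]
      dsimp only
      rw [Nat.sub_add_cancel hm1]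
    · intro m _ _
      rfl
  exact hb.unique (isNewton_grK P hK d x) n h1 h2

lemma psumPoly_zero (d : ℕ) : psumPoly d 0 = (d : MvPolynomial (Fin d) ℚ) := by
  apply symmHom_injective d
  rw [psumPoly, symmHom_symm, map_natCast]
  simp [MvPolynomial.psum]

lemma chPoly_eq (d : ℕ) : chPoly d =
    ∑ k ∈ Finset.range (d + 1), MvPolynomial.C (1 / (Nat.factorial k : ℚ)) * psumPoly d k := by
  apply symmHom_injective d
  rw [chPoly, symmHom_symm, map_sum]
  simp only [map_mul]
  have h1 : ∀ k, symmHom d (psumPoly d k) = MvPolynomial.psum (Fin d) ℚ k := by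
    intro k
    rw [psumPoly, symmHom_symm]
  have h2 : ∀ q : ℚ, symmHom d (MvPolynomial.C q) = MvPolynomial.C q := by
    intro q
    change (MvPolynomial.symmetricSubalgebra (Fin d) ℚ).val.comp
      (MvPolynomial.esymmAlgEquiv (Fin d) ℚ (Fintype.card_fin d)).toAlgHom
        (algebraMap ℚ (MvPolynomial (Fin d) ℚ) q) = _
    rw [AlgHom.commutes]
    rfl
  simp only [h1, h2]
  simp only [expTrunc, map_sum, map_mul, map_pow, Polynomial.aeval_X, Polynomial.aeval_C,
    MvPolynomial.psum, Finset.mul_sum]
  rw [Finset.sum_comm]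
  rfl

include hK in
/-- **The Chern character through the differences of the Adams operations** -/
theorem chK_eq (d : ℕ) (x : K) : chK P d x =
    ∑ n ∈ Finset.range (d + 1), (1 / (Nat.factorial n : ℚ)) • grK P (n : ℤ) (dl P n x) := by
  rw [chK, chPoly_eq, map_sum, Finset.sum_range_succ', Finset.sum_range_succ', dl_zero,
    psumPoly_zero]
  have h0 : grK P ((0 : ℕ) : ℤ) ((P.aug x : ℤ) : K) = algebraMap ℚ (Gr P) (P.aug x : ℚ) := by
    have := grK_intCast_mul P 0 (P.aug x) 1
    rw [mul_one, grK_zero_one] at this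
    rw [Int.natCast_zero, this, zsmul_eq_mul, mul_one, map_intCast]
  rw [h0]
  have h1 : MvPolynomial.aeval (fun i : Fin d => chern P (i.1 + 1) x)
      (MvPolynomial.C (1 / (Nat.factorial 0 : ℚ)) * (d : MvPolynomial (Fin d) ℚ)) =
      (d : Gr P) := by
    simp
  rw [h1, map_sub, map_natCast]
  have h2 : ∀ k ∈ Finset.range d, MvPolynomial.aeval (fun i : Fin d => chern P (i.1 + 1) x)
      (MvPolynomial.C (1 / (Nat.factorial (k + 1) : ℚ)) * psumPoly d (k + 1)) =
      (1 / (Nat.factorial (k + 1) : ℚ)) • grK P ((k + 1 : ℕ) : ℤ) (dl P (k + 1) x) := by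
    intro k hk
    have hk' := Finset.mem_range.mp hk
    rw [map_mul, aeval_psumPoly P hK d (k + 1) (by omega) (by omega), MvPolynomial.aeval_C]
    exact (Algebra.smul_def _ _).symm
  rw [Finset.sum_congr rfl h2]
  simp only [Nat.factorial_zero, Nat.cast_one, div_one, one_smul]
  ring

/-- the component of degree `n` of the Chern character -/
noncomputable def ch (n : ℕ) : K →+ Gr P :=
  AddMonoidHom.mk' (fun x => (1 / (Nat.factorial n : ℚ)) • grK P (n : ℤ) (dl P n x)) (by
    intro x y
    rw [map_add, grK_add, smul_add]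
    · exact mem_QF_of_mem (by simpa using dl_mem P hK n x)
    · exact mem_QF_of_mem (by simpa using dl_mem P hK n y))

lemma ch_apply (n : ℕ) (x : K) :
    ch P hK n x = (1 / (Nat.factorial n : ℚ)) • grK P (n : ℤ) (dl P n x) := rfl

/-- the Chern character as an additive map -/
noncomputable def chHom (d : ℕ) : K →+ Gr P := ∑ n ∈ Finset.range (d + 1), ch P hK n

lemma chHom_apply (d : ℕ) (x : K) : chHom P hK d x = chK P d x := by
  rw [chK_eq P hK, chHom, AddMonoidHom.finsetSum_apply]
  rfl

lemma chHom_eq_sum (d : ℕ) (x : K) :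
    chHom P hK d x = ∑ n ∈ Finset.range (d + 1), ch P hK n x := by
  rw [chHom, AddMonoidHom.finsetSum_apply]

/-- on `F^n` the component of degree `n` of the Chern character is the class in degree `n` -/
lemma ch_of_mem (n : ℕ) (x : K) (hx : x ∈ gammaFiltration P n) :
    ch P hK n x = grK P (n : ℤ) x := by
  have h1 : dl P n x = (dl P n x - (n.factorial : K) * x) + (n.factorial : K) * x := by ring
  have h2 : (n.factorial : ℚ) ≠ 0 := by positivity
  rw [ch_apply, h1, grK_add, grK_natCast_mul, grK_eq_zero_of_mem P (n := (n : ℤ)), zero_add,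
    ← Nat.cast_smul_eq_nsmul ℚ, smul_smul, one_div, inv_mul_cancel₀ h2, one_smul]
  · exact mem_QF_of_mem (by simpa using dl_sub_mem P hK n x hx)
  · apply mem_QF_of_mem
    exact filtration_anti P (by simp) (dl_sub_mem P hK n x hx)
  · exact mem_QF_of_mem (mul_mem_filtration_left P _ _ _ (by simpa using hx))

/-- on `F^m` the component of degree `n < m` of the Chern character vanishes -/
lemma ch_eq_zero_of_mem (m n : ℕ) (hmn : n < m) (x : K) (hx : x ∈ gammaFiltration P m) :
    ch P hK n x = 0 := by
  rw [ch_apply, grK_eq_zero_of_mem, smul_zero]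
  apply mem_QF_of_mem
  exact filtration_anti P (by omega) (dl_mem_of_mem P hK n m x hx)

lemma proj_ch (m n : ℕ) (x : K) : proj P m (ch P hK n x) = if n = m then ch P hK n x else 0 := by
  rw [ch_apply, map_smul, proj_grK]
  by_cases h : n = m
  · rw [if_pos h, if_pos (by exact_mod_cast h)]
  · rw [if_neg h, if_neg (by exact_mod_cast h), smul_zero]

lemma proj_chHom (d m : ℕ) (hm : m ≤ d) (x : K) : proj P m (chHom P hK d x) = ch P hK m x := by
  rw [chHom_eq_sum, map_sum, Finset.sum_eq_single m]
  · rw [proj_ch, if_pos rfl]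
  · intro n _ hn
    rw [proj_ch, if_neg hn]
  · intro h
    exact absurd (Finset.mem_range.mpr (by omega)) h

end Groth.Agent.Krr.H493.ChK
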