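import Groth.Agent.Krr.H500.GrK

/-!
# The decomposition of `KGr.Gr P` by degrees

* `gr_induction`: `Gr P` is spanned over `ℚ` by the classes `grK P n x`, `x ∈ F^n`, `n : ℕ`;
* `proj P m : Gr P →ₗ[ℚ] Gr P`: the projection on the part of degree `m`.
-/

set_option autoImplicit false
universe v

open scoped TensorProduct
open LaurentPolynomial LambdaRing KGr

namespace Groth.Agent.Krr.H493.GrBasis

open Groth.Agent.Books.Lambda2 hiding T
open Groth.Agent.Krr.H500.GrK

variable {K : Type v} [CommRing K] [LambdaRing.LambdaOps K] (P : LambdaRing.PosStructure K)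

omit [LambdaRing.LambdaOps K] in
/-- A Laurent polynomial is the sum of its monomials. -/
lemma eq_sum_monomials (p : LaurentPolynomial K) :
    p = ∑ a ∈ p.coeff.support, C (p.coeff a) * T a := by
  ext m
  rw [AddMonoidAlgebra.coeff_sum, Finsupp.finsetSum_apply]
  simp only [coeff_C_mul_T]
  rw [Finset.sum_ite_eq']
  split_ifs with h'
  · rfl
  · simpa using h'

/-- Induction principle: a property of elements of `ℚGr K` stable by sums and rational multiples which
holds for the classes `grK P n x`, `x ∈ F^n`, `n : ℕ`, holds everywhere. -/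
theorem gr_induction {motive : Gr P → Prop} (add : ∀ a b, motive a → motive b → motive (a + b))
    (smul : ∀ (q : ℚ) a, motive a → motive (q • a))
    (cls : ∀ (n : ℕ) (x : K), x ∈ gammaFiltration P n → motive (grK P (n : ℤ) x)) (z : Gr P) :
    motive z := by
  have h0 : motive 0 := by
    have := smul 0 _ (cls 0 0 (AddSubgroup.zero_mem _))
    rwa [zero_smul] at this
  have key : ∀ w : GrZ P, motive ((1 : ℚ) ⊗ₜ[ℤ] w) := by
    intro w
    obtain ⟨⟨p, hp⟩, rfl⟩ := Ideal.Quotient.mk_surjective w
    have hmem : ∀ a : ℤ, p.coeff a ∈ gammaFiltration P (-a).toNat := by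
      intro a
      have := (mem_rees_iff_coeff P).1 hp (-a)
      rwa [neg_neg] at this
    have hmem2 : ∀ a : ℤ, C (p.coeff a) * T a ∈ rees P := by
      intro a
      have := monomial_mem_rees P (hmem a)
      rwa [neg_neg] at this
    have h1 : (⟨p, hp⟩ : rees P) = ∑ a ∈ p.coeff.support, ⟨C (p.coeff a) * T a, hmem2 a⟩ := by
      apply Subtype.ext
      rw [AddSubmonoidClass.coe_finsetSum]
      exact eq_sum_monomials p
    rw [h1, map_sum, TensorProduct.tmul_sum]
    refine Finset.sum_induction _ motive add h0 ?_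
    intro a _
    have h2 : (1 : ℚ) ⊗ₜ[ℤ] Ideal.Quotient.mk (Ideal.span {tGen P})
        (⟨C (p.coeff a) * T a, hmem2 a⟩ : rees P) = grK P (-a) (p.coeff a) := by
      rw [grK_eq_of_mem P (hmem a), cls_apply]
      congr 2
      apply Subtype.ext
      simp
    rw [h2]
    rcases le_or_gt 0 (-a) with h | h
    · obtain ⟨k, hk⟩ := Int.eq_ofNat_of_zero_le h
      have h3 := hmem a
      rw [hk] at h3 ⊢
      exact cls k _ h3
    · rw [grK_eq_zero_of_mem P]
      · exact h0
      · have : (-a + 1).toNat = 0 := by omega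
        rw [this]
        exact mem_QF_zero _
  refine TensorProduct.induction_on z h0 ?_ add
  intro q w
  have : q ⊗ₜ[ℤ] w = q • ((1 : ℚ) ⊗ₜ[ℤ] w) := by
    rw [TensorProduct.smul_tmul', smul_eq_mul, mul_one]
  rw [this]
  exact smul q _ (key w)

/-- The monomial part of degree `-m` of an element of the Rees ring. -/
noncomputable def monoPart (m : ℤ) : rees P →+ rees P where
  toFun p := ⟨C (p.1.coeff (-m)) * T (-m), monomial_mem_rees P ((mem_rees_iff_coeff P).1 p.2 m)⟩
  map_zero' := by
    apply Subtype.ext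
    simp
  map_add' p q := by
    apply Subtype.ext
    change C ((p.1 + q.1).coeff (-m)) * T (-m) = C (p.1.coeff (-m)) * T (-m) +
      C (q.1.coeff (-m)) * T (-m)
    rw [AddMonoidAlgebra.coeff_add, Finsupp.add_apply, map_add, add_mul]

omit [LambdaRing.LambdaOps K] in
lemma coeff_mul_T_one (p : LaurentPolynomial K) (m : ℤ) :
    (p * T 1).coeff m = p.coeff (m - 1) := by
  conv_lhs => rw [eq_sum_monomials p]
  rw [Finset.sum_mul, AddMonoidAlgebra.coeff_sum, Finsupp.finsetSum_apply]
  simp only [mul_T_assoc, coeff_C_mul_T]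
  conv_rhs => rw [eq_sum_monomials p]
  rw [AddMonoidAlgebra.coeff_sum, Finsupp.finsetSum_apply]
  simp only [coeff_C_mul_T]
  apply Finset.sum_congr rfl
  intro a _
  by_cases h : a = m - 1
  · rw [if_pos h, if_pos (by omega)]
  · rw [if_neg h, if_neg (by omega)]

/-- The degree `m` projection on `Gr K`. -/
noncomputable def projZ (m : ℤ) : GrZ P →+ GrZ P :=
  QuotientAddGroup.lift (Submodule.toAddSubgroup (Ideal.span {tGen P}))
    ((Ideal.Quotient.mk (Ideal.span {tGen P}) : rees P →+ GrZ P).comp (monoPart P m)) (by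
    intro p hp
    obtain ⟨q, hq⟩ := Ideal.mem_span_singleton'.1 hp
    change Ideal.Quotient.mk (Ideal.span {tGen P}) (monoPart P m p) = 0
    rw [Ideal.Quotient.eq_zero_iff_mem, Ideal.mem_span_singleton']
    refine ⟨monoPart P (m + 1) q, ?_⟩
    apply Subtype.ext
    have hq' : q.1 * T 1 = p.1 := congrArg Subtype.val hq
    change (C (q.1.coeff (-(m + 1))) * T (-(m + 1))) * T 1 = C (p.1.coeff (-m)) * T (-m)
    rw [mul_T_assoc, ← hq', coeff_mul_T_one]
    have e1 : -(m + 1) + 1 = -m := by ring
    have e2 : -m - 1 = -(m + 1) := by ring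
    rw [e1, e2])

lemma projZ_mk (m : ℤ) (p : rees P) : projZ P m (Ideal.Quotient.mk (Ideal.span {tGen P}) p) =
    Ideal.Quotient.mk (Ideal.span {tGen P}) (monoPart P m p) := rfl

lemma projZ_cls (m n : ℤ) (x : gammaFiltration P n.toNat) :
    projZ P m (cls P n x) = if n = m then cls P n x else 0 := by
  rw [cls_apply, projZ_mk]
  split_ifs with h
  · subst h
    congr 1
    apply Subtype.ext
    change C ((C x.1 * T (-n) : LaurentPolynomial K).coeff (-n)) * T (-n) = C x.1 * T (-n)
    rw [coeff_C_mul_T, if_pos rfl]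
  · have : monoPart P m (⟨C x.1 * T (-n), monomial_mem_rees P x.2⟩ : rees P) = 0 := by
      apply Subtype.ext
      change C ((C x.1 * T (-n) : LaurentPolynomial K).coeff (-m)) * T (-m) = 0
      rw [coeff_C_mul_T, if_neg (by omega), map_zero, zero_mul]
    rw [this, map_zero]

/-- The degree `m` projection on `ℚGr K`. -/
noncomputable def proj (m : ℤ) : Gr P →ₗ[ℚ] Gr P :=
  (projZ P m).toIntLinearMap.baseChange ℚ

lemma proj_tmul (m : ℤ) (q : ℚ) (w : GrZ P) : proj P m (q ⊗ₜ[ℤ] w) = q ⊗ₜ[ℤ] projZ P m w := rfl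

lemma proj_grK (m n : ℤ) (x : K) : proj P m (grK P n x) = if n = m then grK P n x else 0 := by
  by_cases hx : x ∈ QF P n.toNat
  · obtain ⟨N, hN, hx⟩ := hx
    rw [grK_eq P hN hx, proj_tmul, projZ_cls]
    split_ifs
    · rfl
    · rw [TensorProduct.tmul_zero]
  · rw [grK_eq_zero_of_notMem P hx, map_zero, ite_self]

lemma proj_grK_self (n : ℤ) (x : K) : proj P n (grK P n x) = grK P n x := by
  rw [proj_grK, if_pos rfl]

lemma proj_grK_of_ne {m n : ℤ} (h : n ≠ m) (x : K) : proj P m (grK P n x) = 0 := by
  rw [proj_grK, if_neg h]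

/-- An element of `ℚGr K` whose projections all vanish is zero. -/
lemma eq_zero_of_proj (z : Gr P) (h : ∀ m : ℕ, proj P m z = 0) : z = 0 := by
  have key : ∀ z : Gr P, ∃ s : Finset ℕ, z = ∑ m ∈ s, proj P m z := by
    intro z
    refine gr_induction P (motive := fun z => ∃ s : Finset ℕ, z = ∑ m ∈ s, proj P m z) ?_ ?_ ?_ z
    · classical
      rintro a b ⟨s, hs⟩ ⟨t, ht⟩
      have h1 : ∀ (c : Gr P) (s t : Finset ℕ), s ⊆ t → c = ∑ m ∈ s, proj P m c →
          c = ∑ m ∈ t, proj P m c := by
        intro c s t hst hc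
        rw [← Finset.sum_subset hst (f := fun m : ℕ => proj P m c)]
        · exact hc
        · intro m _ hm
          rw [hc, map_sum]
          apply Finset.sum_eq_zero
          intro k hk
          have hkm : (k : ℤ) ≠ (m : ℤ) := by
            intro h
            apply hm
            rw [← Int.ofNat_injective h]
            exact hk
          refine gr_induction P (motive := fun c => proj P m (proj P k c) = 0) ?_ ?_ ?_ c
          · intro a b ha hb
            rw [map_add, map_add, ha, hb, add_zero]
          · intro q a ha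
            rw [map_smul, map_smul, ha, smul_zero]
          · intro n x _
            rw [proj_grK]
            split_ifs with h
            · rw [proj_grK_of_ne]
              rw [h]
              exact hkm
            · rw [map_zero]
      refine ⟨s ∪ t, ?_⟩
      simp only [map_add]
      rw [Finset.sum_add_distrib, ← h1 a s _ Finset.subset_union_left hs,
        ← h1 b t _ Finset.subset_union_right ht]
    · rintro q a ⟨s, hs⟩
      refine ⟨s, ?_⟩
      simp only [map_smul]
      rw [← Finset.smul_sum, ← hs]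
    · intro n x _
      refine ⟨{n}, ?_⟩
      rw [Finset.sum_singleton, proj_grK_self]
  obtain ⟨s, hs⟩ := key z
  rw [hs]
  exact Finset.sum_eq_zero (fun m _ => h m)

end Groth.Agent.Krr.H493.GrBasis
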